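import Cfsg.Agent.H195.BC.Symp

/-!
# Elements of order `p ^ j (q ^ d ± 1)` in `PSp_(2(c+d))(q)`, `q` odd (helper497)

* `exists_unip` : `Sp_(2c)(q)` has an element of order `p ^ j` if `p ^ (j-1) < 2 c`;
* `exists_unip_tor` : the elements of order `p ^ j (q ^ d + 1)` and `p ^ j (q ^ d - 1)`.
-/

set_option autoImplicit false

namespace Cfsg.Agent.H497.Spec

open Matrix Cfsg.Agent.H376.SpEmb

/-- powers of a graded matrix -/
theorem pow_graded {ι F : Type*} [Fintype ι] [DecidableEq ι] [Field F] (N : Matrix ι ι F) (ρ : ι → ℕ) {m : ℕ}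
    (hρ : Function.Injective ρ) (hm : ∀ i, ρ i < m) (hs : ∀ k < m, ∃ i, ρ i = k)
    (h0 : ∀ x y, ρ x ≤ ρ y → N x y = 0) (h1 : ∀ x y, ρ x = ρ y + 1 → N x y ≠ 0) (k : ℕ) :
    (∀ x y, ρ x < ρ y + k → (N ^ k) x y = 0) ∧ (∀ x y, ρ x = ρ y + k → (N ^ k) x y ≠ 0) := by
  induction k with
  | zero =>
    refine ⟨fun x y h => ?_, fun x y h => ?_⟩
    · rw [pow_zero, Matrix.one_apply_ne]
      rintro rfl
      omega
    · have : x = y := hρ (by omega)
      rw [this, pow_zero, Matrix.one_apply_eq]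
      exact one_ne_zero
  | succ k ih =>
    refine ⟨fun x y h => ?_, fun x y h => ?_⟩
    · rw [pow_succ, Matrix.mul_apply]
      refine Finset.sum_eq_zero fun z _ => ?_
      by_cases hz : ρ z ≤ ρ y
      · rw [h0 z y hz, mul_zero]
      · rw [ih.1 x z (by omega), zero_mul]
    · obtain ⟨z, hz⟩ := hs (ρ y + 1) (by have := hm x; omega)
      rw [pow_succ, Matrix.mul_apply, Finset.sum_eq_single z]
      · exact mul_ne_zero (ih.2 x z (by omega)) (h1 z y hz)
      · intro w _ hw
        by_cases hwy : ρ w ≤ ρ y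
        · rw [h0 w y hwy, mul_zero]
        · have : ρ w ≠ ρ z := fun e => hw (hρ e)
          rw [ih.1 x w (by omega), zero_mul]
      · intro h
        exact absurd (Finset.mem_univ z) h

section

variable (F : Type*) [Field F] (c : ℕ)

/-- the upper unitriangular matrix of ones -/
def ux : Matrix (Fin c) (Fin c) F := fun i j => if i ≤ j then 1 else 0
/-- its inverse transpose -/
def uz : Matrix (Fin c) (Fin c) F := fun i j => if i = j then 1 else if (i : ℕ) = j + 1 then -1 else 0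
/-- the off diagonal block -/
def uy : Matrix (Fin c) (Fin c) F := fun _ j => if (j : ℕ) + 1 = c then 1 else 0

theorem ux_uz : (ux F c)ᵀ * uz F c = 1 := by
  ext i j
  rw [Matrix.mul_apply]
  simp only [Matrix.transpose_apply, ux, uz]
  by_cases hj : (j : ℕ) + 1 < c
  · have h1 : j ≠ (⟨(j : ℕ) + 1, hj⟩ : Fin c) := by
      intro h
      have := congrArg Fin.val h
      simp at this
    rw [Finset.sum_eq_add (a := j) (b := ⟨(j : ℕ) + 1, hj⟩) h1]
    · rw [if_pos rfl, if_neg h1.symm, if_pos rfl, Matrix.one_apply]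
      simp only [Fin.le_def, Fin.ext_iff]
      split_ifs <;> first | omega | ring
    · intro k _ hk
      have h2 : (k : ℕ) ≠ j + 1 := fun h => hk.2 (Fin.ext h)
      rw [if_neg hk.1, if_neg h2, mul_zero]
    · intro h; exact absurd (Finset.mem_univ _) h
    · intro h; exact absurd (Finset.mem_univ _) h
  · rw [Finset.sum_eq_single j]
    · have hi' := i.2
      rw [if_pos rfl, mul_one, Matrix.one_apply]
      simp only [Fin.le_def, Fin.ext_iff]
      split_ifs <;> first | omega | rfl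
    · intro k _ hk
      have h2 : (k : ℕ) ≠ j + 1 := by have := k.2; omega
      rw [if_neg hk, if_neg h2, mul_zero]
    · intro h; exact absurd (Finset.mem_univ _) h

theorem sum_uz (j : Fin c) : ∑ k, uz F c k j = if (j : ℕ) + 1 = c then 1 else 0 := by
  simp only [uz]
  by_cases hj : (j : ℕ) + 1 < c
  · have h1 : j ≠ (⟨(j : ℕ) + 1, hj⟩ : Fin c) := by
      intro h
      have := congrArg Fin.val h
      simp at this
    rw [Finset.sum_eq_add (a := j) (b := ⟨(j : ℕ) + 1, hj⟩) h1]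
    · rw [if_pos rfl, if_neg h1.symm, if_pos rfl, if_neg (by omega)]
      ring
    · intro k _ hk
      have h2 : (k : ℕ) ≠ j + 1 := fun h => hk.2 (Fin.ext h)
      rw [if_neg hk.1, if_neg h2]
    · intro h; exact absurd (Finset.mem_univ _) h
    · intro h; exact absurd (Finset.mem_univ _) h
  · rw [Finset.sum_eq_single j]
    · rw [if_pos rfl, if_pos (by have := j.2; omega)]
    · intro k _ hk
      have h2 : (k : ℕ) ≠ j + 1 := by have := k.2; omega
      rw [if_neg hk, if_neg h2]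
    · intro h; exact absurd (Finset.mem_univ _) h

theorem uy_mul (i j : Fin c) : ((uy F c)ᵀ * uz F c) i j =
    if (i : ℕ) + 1 = c ∧ (j : ℕ) + 1 = c then 1 else 0 := by
  rw [Matrix.mul_apply]
  simp only [Matrix.transpose_apply, uy]
  by_cases hi : (i : ℕ) + 1 = c
  · simp only [if_pos hi, one_mul]
    rw [sum_uz]
    by_cases hj : (j : ℕ) + 1 = c
    · rw [if_pos hj, if_pos ⟨hi, hj⟩]
    · rw [if_neg hj, if_neg fun h => hj h.2]
  · simp only [if_neg hi, zero_mul, Finset.sum_const_zero]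
    rw [if_neg fun h => hi h.1]

theorem uy_uz : (uy F c)ᵀ * uz F c = (uz F c)ᵀ * uy F c := by
  have h : (uz F c)ᵀ * uy F c = ((uy F c)ᵀ * uz F c)ᵀ := by
    rw [Matrix.transpose_mul, Matrix.transpose_transpose]
  rw [h]
  ext i j
  rw [Matrix.transpose_apply, uy_mul, uy_mul]
  simp only [and_comm]

/-- a regular unipotent element -/
def un : Matrix.symplecticGroup (Fin c) F :=
  ⟨fromBlocks (ux F c) (uy F c) 0 (uz F c), by
    rw [SymplecticGroup.fromBlocks_mem_iff]
    refine ⟨by simp, uy_uz F c, ?_⟩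
    rw [ux_uz]; simp⟩

/-- the rank of an index -/
def rk : Fin c ⊕ Fin c → ℕ
  | Sum.inl i => 2 * c - 1 - i
  | Sum.inr i => i

theorem rk_inj : Function.Injective (rk c) := by
  rintro (i | i) (j | j) h <;> simp only [rk] at h <;> have hi := i.2 <;> have hj := j.2
  · congr 1; apply Fin.ext; omega
  · omega
  · omega
  · congr 1; exact Fin.ext h

theorem rk_lt (x : Fin c ⊕ Fin c) : rk c x < 2 * c := by
  rcases x with i | i <;> simp only [rk] <;> have hi := i.2 <;> omega

theorem rk_surj (k : ℕ) (hk : k < 2 * c) : ∃ x, rk c x = k := by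
  by_cases h : k < c
  · exact ⟨Sum.inr ⟨k, h⟩, rfl⟩
  · refine ⟨Sum.inl ⟨2 * c - 1 - k, by omega⟩, ?_⟩
    simp only [rk]
    omega

/-- the nilpotent part -/
def nn : Matrix (Fin c ⊕ Fin c) (Fin c ⊕ Fin c) F := ((un F c : Matrix.symplecticGroup (Fin c) F) :
  Matrix (Fin c ⊕ Fin c) (Fin c ⊕ Fin c) F) - 1

theorem nn_zero (x y : Fin c ⊕ Fin c) (h : rk c x ≤ rk c y) : nn F c x y = 0 := by
  rcases x with i | i <;> rcases y with j | j <;> simp only [rk] at h <;> have hi := i.2 <;> have hj := j.2 <;>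
    simp only [nn, un, Matrix.sub_apply, Matrix.fromBlocks_apply₁₁, Matrix.fromBlocks_apply₁₂,
      Matrix.fromBlocks_apply₂₁, Matrix.fromBlocks_apply₂₂, ux, uy, uz, Matrix.one_apply, Sum.inl.injEq,
      Sum.inr.injEq, reduceCtorEq, if_false, Matrix.zero_apply, sub_zero, Fin.le_def, Fin.ext_iff]
  · split_ifs <;> first | omega | simp
  · omega
  · split_ifs <;> first | omega | simp

theorem nn_ne (x y : Fin c ⊕ Fin c) (h : rk c x = rk c y + 1) : nn F c x y ≠ 0 := by
  rcases x with i | i <;> rcases y with j | j <;> simp only [rk] at h <;> have hi := i.2 <;> have hj := j.2 <;>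
    simp only [nn, un, Matrix.sub_apply, Matrix.fromBlocks_apply₁₁, Matrix.fromBlocks_apply₁₂,
      Matrix.fromBlocks_apply₂₁, Matrix.fromBlocks_apply₂₂, ux, uy, uz, Matrix.one_apply, Sum.inl.injEq,
      Sum.inr.injEq, reduceCtorEq, if_false, Matrix.zero_apply, sub_zero, Fin.le_def, Fin.ext_iff]
  · split_ifs <;> first | omega | simp
  · split_ifs <;> first | omega | simp
  · omega
  · split_ifs <;> first | omega | simp

variable {p : ℕ} [hp : Fact p.Prime] [CharP F p]

theorem un_pow (hc : 1 ≤ c) (k : ℕ) : (((un F c) ^ p ^ k : Matrix.symplecticGroup (Fin c) F) :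
    Matrix (Fin c ⊕ Fin c) (Fin c ⊕ Fin c) F) = 1 + nn F c ^ p ^ k := by
  have : Nonempty (Fin c ⊕ Fin c) := ⟨Sum.inl ⟨0, hc⟩⟩
  have h1 : ((un F c : Matrix.symplecticGroup (Fin c) F) : Matrix (Fin c ⊕ Fin c) (Fin c ⊕ Fin c) F) = 1 + nn F c := by
    rw [nn]; abel
  change ((un F c : Matrix.symplecticGroup (Fin c) F) : Matrix (Fin c ⊕ Fin c) (Fin c ⊕ Fin c) F) ^ p ^ k = _
  rw [h1, add_pow_char_pow_of_commute _ _ (Commute.one_left _), one_pow]

/-- **Unipotent elements of prescribed order.** -/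
theorem exists_unip {j : ℕ} (hc : 1 ≤ c) (hj1 : 1 ≤ j) (hj : p ^ (j - 1) < 2 * c) :
    ∃ v : Matrix.symplecticGroup (Fin c) F, orderOf v = p ^ j := by
  have hgr := pow_graded (nn F c) (rk c) (rk_inj c) (rk_lt c) (rk_surj c) (nn_zero F c) (nn_ne F c)
  have h1 : (un F c) ^ p ^ (2 * c) = 1 := by
    apply Subtype.ext
    rw [un_pow F c (p := p) hc]
    have : nn F c ^ p ^ (2 * c) = 0 := by
      ext x y
      refine (hgr (p ^ (2 * c))).1 x y ?_
      have h2 := rk_lt c x
      have h3 : 2 * c < p ^ (2 * c) := Nat.lt_pow_self hp.out.one_lt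
      omega
    rw [this, add_zero]
    rfl
  obtain ⟨k, -, hk⟩ := (Nat.dvd_prime_pow hp.out).1 (orderOf_dvd_of_pow_eq_one h1)
  have hjk : j ≤ k := by
    by_contra hcon
    have h2 : (un F c) ^ p ^ (j - 1) = 1 := by
      apply orderOf_dvd_iff_pow_eq_one.1
      rw [hk]
      exact pow_dvd_pow p (by omega)
    have h3 := congrArg (fun v : Matrix.symplecticGroup (Fin c) F =>
      (v : Matrix (Fin c ⊕ Fin c) (Fin c ⊕ Fin c) F)) h2
    rw [un_pow F c (p := p) hc] at h3
    obtain ⟨x, hx⟩ := rk_surj c _ hj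
    obtain ⟨y, hy⟩ := rk_surj c 0 (by omega)
    apply (hgr (p ^ (j - 1))).2 x y (by rw [hx, hy, zero_add])
    have h4 := congrFun (congrFun h3 x) y
    rw [Matrix.add_apply] at h4
    have h5 : ((1 : Matrix.symplecticGroup (Fin c) F) : Matrix (Fin c ⊕ Fin c) (Fin c ⊕ Fin c) F) x y =
      (1 : Matrix (Fin c ⊕ Fin c) (Fin c ⊕ Fin c) F) x y := rfl
    rw [h5] at h4
    exact add_left_cancel (h4.trans (add_zero _).symm)
  refine ⟨(un F c) ^ p ^ (k - j), ?_⟩
  rw [orderOf_pow' _ (pow_ne_zero _ hp.out.ne_zero), hk, Nat.gcd_eq_right (pow_dvd_pow p (by omega)),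
    Nat.pow_div (by omega) hp.out.pos]
  congr 1
  omega

end

/-- products in `PSp` -/
theorem exists_psp (F : Type*) [Field F] {p : ℕ} [hp : Fact p.Prime] (hodd : p ≠ 2) (h2 : (2 : F) ≠ 0) {c d j s : ℕ}
    (hc : 1 ≤ c) (v : Matrix.symplecticGroup (Fin c) F) (hv : orderOf v = p ^ j)
    (w : Matrix.symplecticGroup (Fin d) F) (hw : orderOf w = s) (hcop : Nat.Coprime p s) :
    ∃ C : Cfsg.PSp (c + d) F, orderOf C = p ^ j * s := by
  let C : Matrix.symplecticGroup (Fin (c + d)) F := (reidx finSumFinEquiv) (blk _ _ (v, w))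
  have hC : orderOf C = p ^ j * s := by
    rw [orderOf_injective _ (reidx_injective _), orderOf_injective _ (blk_injective _ _),
      Prod.orderOf_mk, hv, hw, (hcop.pow_left j).lcm_eq_mul]
  refine ⟨QuotientGroup.mk C, ?_⟩
  rw [← hC]
  apply orderOf_eq_orderOf_iff.2
  intro t
  rw [← QuotientGroup.mk_pow, QuotientGroup.eq_one_iff]
  constructor
  · intro h
    rcases ClassicalGeometry.SympInvolutions.center_eq h with h1 | h1
    · exact Subtype.ext h1
    · exfalso
      have h3 : (C ^ t) ^ p ^ j = (reidx finSumFinEquiv) (blk (Fin c) (Fin d) (1, (w ^ t) ^ p ^ j)) := by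
        have h4 : ((1 : Matrix.symplecticGroup (Fin c) F), (w ^ t) ^ p ^ j) = ((v, w) ^ t) ^ p ^ j := by
          refine Prod.ext ?_ rfl
          change 1 = (v ^ t) ^ p ^ j
          rw [← pow_mul, mul_comm, pow_mul, ← hv, pow_orderOf_eq_one, one_pow]
        rw [h4, map_pow, map_pow, map_pow, map_pow]
      have h1' : (((C ^ t) ^ p ^ j : Matrix.symplecticGroup (Fin (c + d)) F) :
          Matrix (Fin (c + d) ⊕ Fin (c + d)) (Fin (c + d) ⊕ Fin (c + d)) F) = -1 := by
        change ((C ^ t : Matrix.symplecticGroup (Fin (c + d)) F) :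
          Matrix (Fin (c + d) ⊕ Fin (c + d)) (Fin (c + d) ⊕ Fin (c + d)) F) ^ p ^ j = -1
        rw [h1]
        exact Odd.neg_one_pow ((hp.out.odd_of_ne_two hodd).pow)
      rw [h3] at h1'
      have h4 := congrFun (congrFun h1' (Sum.inl (finSumFinEquiv (Sum.inl ⟨0, hc⟩))))
        (Sum.inl (finSumFinEquiv (Sum.inl ⟨0, hc⟩)))
      have h5 : ((reidx finSumFinEquiv) (blk (Fin c) (Fin d) ((1 : Matrix.symplecticGroup (Fin c) F), (w ^ t) ^ p ^ j)) :
          Matrix (Fin (c + d) ⊕ Fin (c + d)) (Fin (c + d) ⊕ Fin (c + d)) F)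
          (Sum.inl (finSumFinEquiv (Sum.inl ⟨0, hc⟩))) (Sum.inl (finSumFinEquiv (Sum.inl ⟨0, hc⟩))) =
          (1 : Matrix (Fin c ⊕ Fin c) (Fin c ⊕ Fin c) F) (Sum.inl ⟨0, hc⟩) (Sum.inl ⟨0, hc⟩) := by
        change (blkM (1 : Matrix (Fin c ⊕ Fin c) (Fin c ⊕ Fin c) F) _).submatrix _ _ _ _ = _
        simp only [Matrix.submatrix_apply, Equiv.sumCongr_symm, Equiv.sumCongr_apply, Sum.map_inl,
          Equiv.symm_apply_apply]
        rfl
      rw [h5, Matrix.one_apply_eq, Matrix.neg_apply, Matrix.one_apply_eq] at h4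
      apply h2
      linear_combination h4
  · intro h
    rw [h]
    exact one_mem _

/-- **Unipotent times torus elements of `PSp`.** -/
theorem exists_unip_tor (F : Type*) [Field F] [Fintype F] {p : ℕ} [Fact p.Prime] [CharP F p] (h2 : (2 : F) ≠ 0)
    {c d j : ℕ} (hc : 1 ≤ c) (hd : 1 ≤ d) (hj1 : 1 ≤ j) (hj : p ^ (j - 1) < 2 * c) :
    (∃ C : Cfsg.PSp (c + d) F, orderOf C = p ^ j * (Fintype.card F ^ d + 1)) ∧
      (∃ C : Cfsg.PSp (c + d) F, orderOf C = p ^ j * (Fintype.card F ^ d - 1)) := by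
  have hp : p.Prime := Fact.out
  have hp2 : p ≠ 2 := by
    rintro rfl
    exact h2 (CharP.cast_eq_zero F 2)
  have hpq : p ∣ Fintype.card F := (CharP.cast_eq_zero_iff F p _).1 (FiniteField.cast_card_eq_zero F)
  have hpd : p ∣ Fintype.card F ^ d := dvd_pow hpq (by omega)
  obtain ⟨v, hv⟩ := exists_unip F c (p := p) hc hj1 hj
  have hpos : 0 < Fintype.card F ^ d := pow_pos Fintype.card_pos _
  constructor
  · obtain ⟨w, hw⟩ := exists_plus F d (by omega)
    rw [Nat.card_eq_fintype_card] at hw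
    refine exists_psp F hp2 h2 hc v hv w hw ?_
    rw [Nat.Prime.coprime_iff_not_dvd hp]
    intro h
    exact hp.one_lt.ne' (Nat.dvd_one.1 ((Nat.dvd_add_right hpd).1 h))
  · obtain ⟨w, hw⟩ := exists_minus F d (by omega)
    rw [Nat.card_eq_fintype_card] at hw
    refine exists_psp F hp2 h2 hc v hv w hw ?_
    rw [Nat.Prime.coprime_iff_not_dvd hp]
    intro h
    have h3 : p ∣ 1 := by
      have h4 := Nat.dvd_sub hpd h
      rwa [Nat.sub_sub_self hpos] at h4
    exact hp.one_lt.ne' (Nat.dvd_one.1 h3)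

end Cfsg.Agent.H497.Spec
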